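import Cfsg.Agent.CosetCert.Fi23Index31671.CheckLog
import Cfsg.Agent.CosetCert.Fi23Index31671.CheckTable
import Cfsg.Agent.CosetCert.Fi23Index31671.CheckRels

/-! Generated: validity of the certificate. -/

namespace Cfsg.Agent.CosetCert.Fi23Index31671

theorem valid : data.Valid where
  n_pos := by decide +kernel
  root := by decide +kernel
  log := log_ok
  coset := coset_ok
  rels := rels_ok
  powers_eq := by decide +kernel
  pw := by decide +kernel
  letters := by decide +kernel
  K_small := by decide +kernel
  nR_le := by decide +kernel
  subs := by decide +kernel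
  iv_iv := fun x hx => ⟨rfl, hx⟩
  iv_big := fun _ _ => rfl

end Cfsg.Agent.CosetCert.Fi23Index31671
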