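import Cfsg.Agent.CosetCert.Fi23Index31671.Defs

/-! Generated: kernel checks. -/

set_option Elab.async false

namespace Cfsg.Agent.CosetCert.Fi23Index31671

theorem log_okAt160000 : allFrom data.checkLog 160000 2500 = true := by decide +kernel

theorem log_okAt162500 : allFrom data.checkLog 162500 2500 = true := by decide +kernel

theorem log_okAt165000 : allFrom data.checkLog 165000 2500 = true := by decide +kernel

theorem log_okAt167500 : allFrom data.checkLog 167500 2500 = true := by decide +kernel

theorem log_okAt170000 : allFrom data.checkLog 170000 2500 = true := by decide +kernel

theorem log_okAt172500 : allFrom data.checkLog 172500 2500 = true := by decide +kernel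

theorem log_okAt175000 : allFrom data.checkLog 175000 2500 = true := by decide +kernel

theorem log_okAt177500 : allFrom data.checkLog 177500 2500 = true := by decide +kernel

theorem log_okAt180000 : allFrom data.checkLog 180000 2500 = true := by decide +kernel

theorem log_okAt182500 : allFrom data.checkLog 182500 2500 = true := by decide +kernel

theorem log_okAt185000 : allFrom data.checkLog 185000 2500 = true := by decide +kernel

theorem log_okAt187500 : allFrom data.checkLog 187500 2500 = true := by decide +kernel

theorem log_okAt190000 : allFrom data.checkLog 190000 2500 = true := by decide +kernel

theorem log_okAt192500 : allFrom data.checkLog 192500 2500 = true := by decide +kernel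

theorem log_okAt195000 : allFrom data.checkLog 195000 2500 = true := by decide +kernel

theorem log_okAt197500 : allFrom data.checkLog 197500 2500 = true := by decide +kernel

theorem log_okAt200000 : allFrom data.checkLog 200000 2500 = true := by decide +kernel

theorem log_okAt202500 : allFrom data.checkLog 202500 2500 = true := by decide +kernel

theorem log_okAt205000 : allFrom data.checkLog 205000 2500 = true := by decide +kernel

theorem log_okAt207500 : allFrom data.checkLog 207500 2500 = true := by decide +kernel

theorem log_okAt210000 : allFrom data.checkLog 210000 2500 = true := by decide +kernel

theorem log_okAt212500 : allFrom data.checkLog 212500 2500 = true := by decide +kernel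

theorem log_okAt215000 : allFrom data.checkLog 215000 2500 = true := by decide +kernel

theorem log_okAt217500 : allFrom data.checkLog 217500 2500 = true := by decide +kernel

theorem log_okAt220000 : allFrom data.checkLog 220000 2500 = true := by decide +kernel

theorem log_okAt222500 : allFrom data.checkLog 222500 2500 = true := by decide +kernel

theorem log_okAt225000 : allFrom data.checkLog 225000 2500 = true := by decide +kernel

theorem log_okAt227500 : allFrom data.checkLog 227500 2500 = true := by decide +kernel

theorem log_okAt230000 : allFrom data.checkLog 230000 2500 = true := by decide +kernel

theorem log_okAt232500 : allFrom data.checkLog 232500 2500 = true := by decide +kernel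

theorem log_okAt235000 : allFrom data.checkLog 235000 2500 = true := by decide +kernel

theorem log_okAt237500 : allFrom data.checkLog 237500 2500 = true := by decide +kernel

end Cfsg.Agent.CosetCert.Fi23Index31671
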