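import Cfsg.Agent.CosetCert.Fi23Index31671.Defs

/-! Generated: kernel checks. -/

set_option Elab.async false

namespace Cfsg.Agent.CosetCert.Fi23Index31671

theorem log_okAt0 : allFrom data.checkLog 0 2500 = true := by decide +kernel

theorem log_okAt2500 : allFrom data.checkLog 2500 2500 = true := by decide +kernel

theorem log_okAt5000 : allFrom data.checkLog 5000 2500 = true := by decide +kernel

theorem log_okAt7500 : allFrom data.checkLog 7500 2500 = true := by decide +kernel

theorem log_okAt10000 : allFrom data.checkLog 10000 2500 = true := by decide +kernel

theorem log_okAt12500 : allFrom data.checkLog 12500 2500 = true := by decide +kernel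

theorem log_okAt15000 : allFrom data.checkLog 15000 2500 = true := by decide +kernel

theorem log_okAt17500 : allFrom data.checkLog 17500 2500 = true := by decide +kernel

theorem log_okAt20000 : allFrom data.checkLog 20000 2500 = true := by decide +kernel

theorem log_okAt22500 : allFrom data.checkLog 22500 2500 = true := by decide +kernel

theorem log_okAt25000 : allFrom data.checkLog 25000 2500 = true := by decide +kernel

theorem log_okAt27500 : allFrom data.checkLog 27500 2500 = true := by decide +kernel

theorem log_okAt30000 : allFrom data.checkLog 30000 2500 = true := by decide +kernel

theorem log_okAt32500 : allFrom data.checkLog 32500 2500 = true := by decide +kernel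

theorem log_okAt35000 : allFrom data.checkLog 35000 2500 = true := by decide +kernel

theorem log_okAt37500 : allFrom data.checkLog 37500 2500 = true := by decide +kernel

theorem log_okAt40000 : allFrom data.checkLog 40000 2500 = true := by decide +kernel

theorem log_okAt42500 : allFrom data.checkLog 42500 2500 = true := by decide +kernel

theorem log_okAt45000 : allFrom data.checkLog 45000 2500 = true := by decide +kernel

theorem log_okAt47500 : allFrom data.checkLog 47500 2500 = true := by decide +kernel

theorem log_okAt50000 : allFrom data.checkLog 50000 2500 = true := by decide +kernel

theorem log_okAt52500 : allFrom data.checkLog 52500 2500 = true := by decide +kernel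

theorem log_okAt55000 : allFrom data.checkLog 55000 2500 = true := by decide +kernel

theorem log_okAt57500 : allFrom data.checkLog 57500 2500 = true := by decide +kernel

theorem log_okAt60000 : allFrom data.checkLog 60000 2500 = true := by decide +kernel

theorem log_okAt62500 : allFrom data.checkLog 62500 2500 = true := by decide +kernel

theorem log_okAt65000 : allFrom data.checkLog 65000 2500 = true := by decide +kernel

theorem log_okAt67500 : allFrom data.checkLog 67500 2500 = true := by decide +kernel

theorem log_okAt70000 : allFrom data.checkLog 70000 2500 = true := by decide +kernel

theorem log_okAt72500 : allFrom data.checkLog 72500 2500 = true := by decide +kernel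

theorem log_okAt75000 : allFrom data.checkLog 75000 2500 = true := by decide +kernel

theorem log_okAt77500 : allFrom data.checkLog 77500 2500 = true := by decide +kernel

end Cfsg.Agent.CosetCert.Fi23Index31671
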