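import Cfsg.Agent.CosetCert.Fi23Index31671.Defs

/-! Generated: kernel checks. -/

set_option Elab.async false

namespace Cfsg.Agent.CosetCert.Fi23Index31671

theorem rels_okAt0 : allFrom data.checkRels 0 500 = true := by decide +kernel

theorem rels_okAt500 : allFrom data.checkRels 500 500 = true := by decide +kernel

theorem rels_okAt1000 : allFrom data.checkRels 1000 500 = true := by decide +kernel

theorem rels_okAt1500 : allFrom data.checkRels 1500 500 = true := by decide +kernel

theorem rels_okAt2000 : allFrom data.checkRels 2000 500 = true := by decide +kernel

theorem rels_okAt2500 : allFrom data.checkRels 2500 500 = true := by decide +kernel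

theorem rels_okAt3000 : allFrom data.checkRels 3000 500 = true := by decide +kernel

theorem rels_okAt3500 : allFrom data.checkRels 3500 500 = true := by decide +kernel

theorem rels_okAt4000 : allFrom data.checkRels 4000 500 = true := by decide +kernel

theorem rels_okAt4500 : allFrom data.checkRels 4500 500 = true := by decide +kernel

theorem rels_okAt5000 : allFrom data.checkRels 5000 500 = true := by decide +kernel

theorem rels_okAt5500 : allFrom data.checkRels 5500 500 = true := by decide +kernel

theorem rels_okAt6000 : allFrom data.checkRels 6000 500 = true := by decide +kernel

theorem rels_okAt6500 : allFrom data.checkRels 6500 500 = true := by decide +kernel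

theorem rels_okAt7000 : allFrom data.checkRels 7000 500 = true := by decide +kernel

theorem rels_okAt7500 : allFrom data.checkRels 7500 500 = true := by decide +kernel

theorem rels_okAt8000 : allFrom data.checkRels 8000 500 = true := by decide +kernel

theorem rels_okAt8500 : allFrom data.checkRels 8500 500 = true := by decide +kernel

theorem rels_okAt9000 : allFrom data.checkRels 9000 500 = true := by decide +kernel

theorem rels_okAt9500 : allFrom data.checkRels 9500 500 = true := by decide +kernel

theorem rels_okAt10000 : allFrom data.checkRels 10000 500 = true := by decide +kernel

theorem rels_okAt10500 : allFrom data.checkRels 10500 500 = true := by decide +kernel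

theorem rels_okAt11000 : allFrom data.checkRels 11000 500 = true := by decide +kernel

theorem rels_okAt11500 : allFrom data.checkRels 11500 500 = true := by decide +kernel

end Cfsg.Agent.CosetCert.Fi23Index31671
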