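import Cfsg.Agent.CosetCert.Fi23Index31671.Cert
import Cfsg.Agent.CosetCert.Fi23Index31671.Orbit0Data
import Cfsg.Agent.CosetCert.Fi23Index31671.Orbit1Data

/-! Generated: the index and the suborbits. -/

set_option maxRecDepth 100000

namespace Cfsg.Agent.CosetCert.Fi23Index31671

theorem spells : Data.Spells data (Cfsg.Spor.coxRelators Cfsg.Spor.Fi23.edges ∪ {r | r ∈ Cfsg.Spor.Fi23.extra})
    subGens enc dec (coxWords genList Cfsg.Spor.Fi23.edges Cfsg.Spor.Fi23.extra) := by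
  apply spells_cox data genList
  · intro z; cases z <;> decide
  · intro z; cases z <;> exact ⟨by decide +kernel, by decide +kernel, rfl⟩
  · show ∀ x, x < 10 → _
    intro x hx
    interval_cases x <;> exact ⟨by decide +kernel, by decide +kernel, rfl⟩
  · intro z; cases z <;> decide
  · decide +kernel
  · decide +kernel

theorem index_val : (Data.sub (Cfsg.Spor.coxRelators Cfsg.Spor.Fi23.edges ∪ {r | r ∈ Cfsg.Spor.Fi23.extra})
    subGens).index = 31671 :=
  Data.index_eq valid spells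

theorem suborbit0 : ∃ q : Cfsg.Spor.Fi23 ⧸ Data.sub (Cfsg.Spor.coxRelators Cfsg.Spor.Fi23.edges ∪ {r | r ∈ Cfsg.Spor.Fi23.extra}) subGens,
    (MulAction.orbit (Data.sub (Cfsg.Spor.coxRelators Cfsg.Spor.Fi23.edges ∪ {r | r ∈ Cfsg.Spor.Fi23.extra}) subGens) q).ncard = 28160 := by
  obtain ⟨q, hq⟩ := Data.exists_orbit valid spells orbSet0 1 (get48 orbStore0) orb0_root orb0_ok
  exact ⟨q, hq.trans orb0_count⟩

theorem suborbit1 : ∃ q : Cfsg.Spor.Fi23 ⧸ Data.sub (Cfsg.Spor.coxRelators Cfsg.Spor.Fi23.edges ∪ {r | r ∈ Cfsg.Spor.Fi23.extra}) subGens,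
    (MulAction.orbit (Data.sub (Cfsg.Spor.coxRelators Cfsg.Spor.Fi23.edges ∪ {r | r ∈ Cfsg.Spor.Fi23.extra}) subGens) q).ncard = 3510 := by
  obtain ⟨q, hq⟩ := Data.exists_orbit valid spells orbSet1 52 (get48 orbStore1) orb1_root orb1_ok
  exact ⟨q, hq.trans orb1_count⟩

end Cfsg.Agent.CosetCert.Fi23Index31671
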